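import Groth.Agent.PicLib.PicMonoid
import Groth.Prelude.Def_ThetaK

/-!
# The kernel `K(L)` of a line bundle on a group scheme over a field, through translations
-/

set_option autoImplicit false
set_option backward.isDefEq.respectTransparency.types false

universe u

open CategoryTheory CategoryTheory.Limits MonoidalCategory CartesianMonoidalCategory MonObj AlgebraicGeometry
open Groth.Agent.PicLib

namespace Groth.Agent.KLLib

variable {k : Type u} [Field k] {X T : Over (Spec (CommRingCat.of k))} [GrpObj X] {L : X.left.Modules}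

/-- `t_x^* l = p^* l · q^* m`. -/
def Translates (hL : PicF.IsInvertible L) (x : T ⟶ X) (m : PicM T.left) : Prop :=
  PicM.pull (fst X T * (snd X T ≫ x)).left (PicM.of hL) =
    PicM.pull (fst X T).left (PicM.of hL) * PicM.pull (snd X T).left m

theorem whisker_mul (x : T ⟶ X) : (X ◁ x) ≫ μ[X] = fst X T * (snd X T ≫ x) := by
  show _ = lift _ _ ≫ μ[X]
  congr 1

theorem transl_comp_fst (x : T ⟶ X) : ThetaGrp.transl X x ≫ fst X T = fst X T * (snd X T ≫ x) := lift_fst _ _

theorem pull_const (hL : PicF.IsInvertible L) (a : T ⟶ X) (b : 𝟙_ (Over (Spec (CommRingCat.of k))) ⟶ X)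
    (h : a = toUnit T ≫ b) : PicM.pull a.left (PicM.of hL) = 1 := by
  subst h
  rw [Over.comp_left, ← PicM.pull_pull]
  exact (congrArg (PicM.pull (toUnit T).left) (PicM.eq_one_of_field k (PicM.pull b.left (PicM.of hL)))).trans (map_one _)

/-- The zero section over `T`. -/
noncomputable abbrev zeroSec : T ⟶ X ⊗ T := lift (1 : T ⟶ X) (𝟙 T)

theorem pull_one (hL : PicF.IsInvertible L) : PicM.pull (1 : T ⟶ X).left (PicM.of hL) = 1 :=
  pull_const hL _ η[X] Hom.one_def

/-- The module in a translation relation is the inverse image of `L`. -/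
theorem eq_pull {hL : PicF.IsInvertible L} {x : T ⟶ X} {m : PicM T.left} (h : Translates hL x m) :
    m = PicM.pull x.left (PicM.of hL) := by
  have h' := congrArg (PicM.pull (zeroSec (X := X) (T := T)).left) h
  rw [map_mul, PicM.pull_pull, PicM.pull_pull, PicM.pull_pull, ← Over.comp_left, ← Over.comp_left, ← Over.comp_left,
    MonObj.comp_mul, lift_fst, ← Category.assoc, lift_snd, Category.id_comp, _root_.one_mul, pull_one hL,
    Over.id_left, PicM.pull_id, _root_.one_mul] at h'
  exact h'.symm

theorem translates_one (hL : PicF.IsInvertible L) : Translates hL (1 : T ⟶ X) 1 := by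
  simp only [Translates, MonObj.comp_one, _root_.mul_one, map_one]

theorem translates_mul {hL : PicF.IsInvertible L} {x₁ x₂ : T ⟶ X} {m₁ m₂ : PicM T.left}
    (h₁ : Translates hL x₁ m₁) (h₂ : Translates hL x₂ m₂) : Translates hL (x₁ * x₂) (m₁ * m₂) := by
  have e : fst X T * (snd X T ≫ (x₁ * x₂)) = ThetaGrp.transl X x₁ ≫ (fst X T * (snd X T ≫ x₂)) := by
    rw [MonObj.comp_mul, MonObj.comp_mul, transl_comp_fst, ← Category.assoc, ThetaGrp.transl_snd,
      _root_.mul_assoc]
  have h₂' := congrArg (PicM.pull (ThetaGrp.transl X x₁).left) h₂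
  rw [map_mul, PicM.pull_pull, PicM.pull_pull, PicM.pull_pull, ← Over.comp_left, ← Over.comp_left, ← Over.comp_left,
    ← e, transl_comp_fst, ThetaGrp.transl_snd, h₁] at h₂'
  rw [Translates, h₂', map_mul, _root_.mul_assoc]

theorem translates_inv {hL : PicF.IsInvertible L} {x : T ⟶ X} {m : PicM T.left} (h : Translates hL x m) :
    Translates hL x⁻¹ (PicM.pull x⁻¹.left (PicM.of hL)) := by
  have h' := congrArg (PicM.pull (ThetaGrp.transl X x⁻¹).left) h
  have e : ThetaGrp.transl X x⁻¹ ≫ (fst X T * (snd X T ≫ x)) = fst X T := by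
    rw [MonObj.comp_mul, transl_comp_fst, ← Category.assoc, ThetaGrp.transl_snd, _root_.mul_assoc, ← MonObj.comp_mul,
      inv_mul_cancel, MonObj.comp_one, _root_.mul_one]
  rw [map_mul, PicM.pull_pull, PicM.pull_pull, PicM.pull_pull, ← Over.comp_left, ← Over.comp_left, ← Over.comp_left,
    e, transl_comp_fst, ThetaGrp.transl_snd] at h'
  have h0 := congrArg (PicM.pull (zeroSec (X := X) (T := T)).left) h'
  rw [map_mul, PicM.pull_pull, PicM.pull_pull, PicM.pull_pull, ← Over.comp_left, ← Over.comp_left, ← Over.comp_left,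
    MonObj.comp_mul, lift_fst, ← Category.assoc, lift_snd, Category.id_comp, _root_.one_mul, pull_one hL,
    Over.id_left, PicM.pull_id] at h0
  refine mul_right_cancel (b := PicM.pull (snd X T).left m) ?_
  rw [← h', _root_.mul_assoc, ← map_mul, ← h0, map_one, _root_.mul_one]

theorem exists_translates_iff {hL : PicF.IsInvertible L} (x : T ⟶ X) :
    (∃ M : T.left.Modules, PicF.IsInvertible M ∧
      Nonempty (CohB1.tensorMod ((Scheme.Modules.pullback (fst X T).left).obj L)
          ((Scheme.Modules.pullback (snd X T).left).obj M) ≅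
        (Scheme.Modules.pullback (ThetaGrp.transl X x ≫ fst X T).left).obj L)) ↔ ∃ m, Translates hL x m := by
  constructor
  · rintro ⟨M, hM, h⟩
    refine ⟨PicM.of hM, ?_⟩
    rw [Translates, ← transl_comp_fst]
    exact ((PicM.of_eq_iff (isInvertible_tensorMod' hL hM) (PicLoc.isInvertible_pullback _ hL)).2 h).symm
  · rintro ⟨m, hm⟩
    obtain ⟨M, hM, rfl⟩ := m.exists_eq_of
    refine ⟨M, hM, (PicM.of_eq_iff (isInvertible_tensorMod' hL hM) (PicLoc.isInvertible_pullback _ hL)).1 ?_⟩
    rw [Translates, ← transl_comp_fst] at hm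
    exact hm.symm
where
  isInvertible_tensorMod' {L : X.left.Modules} (hL : PicF.IsInvertible L) {M : T.left.Modules} (hM : PicF.IsInvertible M) :=
    AmpleLib.isInvertible_tensorMod (PicLoc.isInvertible_pullback (fst X T).left hL)
      (PicLoc.isInvertible_pullback (snd X T).left hM)

theorem isLambdaSheaf_iff (hL : PicF.IsInvertible L) (x : T ⟶ X) {N : (X ⊗ T).left.Modules} (hN : PicF.IsInvertible N) :
    AgPol.IsLambdaSheaf ((X ◁ x) ≫ μ[X]).left (fst X T).left (snd X T ≫ x).left L N ↔
      PicM.of hN * PicM.pull (fst X T).left (PicM.of hL) * PicM.pull (snd X T ≫ x).left (PicM.of hL) =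
        PicM.pull (fst X T * (snd X T ≫ x)).left (PicM.of hL) := by
  rw [← whisker_mul]
  exact (PicM.of_eq_iff (AmpleLib.isInvertible_tensorMod (AmpleLib.isInvertible_tensorMod hN
    (PicLoc.isInvertible_pullback _ hL)) (PicLoc.isInvertible_pullback _ hL)) (PicLoc.isInvertible_pullback _ hL)).symm

/-- Factoring through `K(L)` is the translation relation. -/
theorem factors_iff {K : Over (Spec (CommRingCat.of k))} {i : K ⟶ X} (hK : ThetaGrp.IsKL X L i)
    (hL : PicF.IsInvertible L) (x : T ⟶ X) : (∃ y : T ⟶ K, y ≫ i = x) ↔ ∃ m, Translates hL x m := by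
  rw [← hK.univ]
  constructor
  · rintro ⟨M, hM, h⟩
    have h' := (isLambdaSheaf_iff hL x (PicLoc.isInvertible_pullback (snd X T).left hM)).1 h
    refine ⟨PicM.of hM * PicM.pull x.left (PicM.of hL), ?_⟩
    rw [Translates, ← h', map_mul, PicM.pull_pull, ← Over.comp_left]
    simp only [PicM.pull_of]
    ac_rfl
  · rintro ⟨m, hm⟩
    have hm1 := eq_pull hm
    refine ⟨Coh.structureModule T.left, PicLoc.isInvertible_structureModule _, ?_⟩
    refine (isLambdaSheaf_iff hL x (PicLoc.isInvertible_pullback _ (PicLoc.isInvertible_structureModule T.left))).2 ?_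
    rw [← PicM.pull_of _ (PicLoc.isInvertible_structureModule T.left), show PicM.of (PicLoc.isInvertible_structureModule T.left) = 1 from rfl, map_one, _root_.one_mul]
    rw [Translates, hm1, PicM.pull_pull, ← Over.comp_left] at hm
    exact hm.symm

end Groth.Agent.KLLib

namespace Groth.Agent.KLLib

open Groth.Agent.PicLib

theorem isInvertible_of_iso {X : Scheme.{u}} {L M : X.Modules} (e : L ≅ M) (hL : PicF.IsInvertible L) :
    PicF.IsInvertible M := fun y => by
  obtain ⟨U, hy, ⟨e'⟩⟩ := hL y
  exact ⟨U, hy, ⟨((Scheme.Modules.restrictFunctor U.ι).mapIso e).symm ≪≫ e'⟩⟩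

variable {k : Type u} [Field k] {X T : Over (Spec (CommRingCat.of k))} [GrpObj X] {L : X.left.Modules}

theorem isInvertible_of_translate (hL : PicF.IsInvertible L) (x : T ⟶ X) {M : T.left.Modules}
    (h : Nonempty (CohB1.tensorMod ((Scheme.Modules.pullback (fst X T).left).obj L)
          ((Scheme.Modules.pullback (snd X T).left).obj M) ≅
        (Scheme.Modules.pullback (ThetaGrp.transl X x ≫ fst X T).left).obj L)) : PicF.IsInvertible M := by
  have h1 := PicM.isInvertible_of_tensor (PicLoc.isInvertible_pullback (fst X T).left hL)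
    (isInvertible_of_iso h.some.symm (PicLoc.isInvertible_pullback _ hL))
  have e : (zeroSec (X := X) (T := T)).left ≫ (snd X T).left = 𝟙 T.left := by
    rw [← Over.comp_left, lift_snd]; rfl
  exact isInvertible_of_iso ((Scheme.Modules.pullbackComp _ _).app M ≪≫ (Scheme.Modules.pullbackCongr e).app M ≪≫
    (Scheme.Modules.pullbackId T.left).app M) (PicLoc.isInvertible_pullback (zeroSec (X := X) (T := T)).left h1)

end Groth.Agent.KLLib
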